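import Cfsg.Agent.Lib.PSL2.Basic
import Mathlib.Algebra.CharP.Algebra
import Mathlib.FieldTheory.Finite.Basic

/-!
# `PSL(2, q)` for prime `q`, recognised by its order
-/

set_option autoImplicit false
set_option linter.style.haveILetI false

namespace CfsgLib.Suborbit3

theorem nonempty_psl_congr {F : Type*} [Field F] {K : Type*} [Field K] (f : F ≃+* K) :
    Nonempty (Matrix.ProjectiveSpecialLinearGroup (Fin 2) F ≃*
      Matrix.ProjectiveSpecialLinearGroup (Fin 2) K) := by
  let eSL : Matrix.SpecialLinearGroup (Fin 2) F ≃* Matrix.SpecialLinearGroup (Fin 2) K :=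
    { toFun := Matrix.SpecialLinearGroup.map f.toRingHom
      invFun := Matrix.SpecialLinearGroup.map f.symm.toRingHom
      left_inv := fun g => Subtype.ext (Matrix.ext fun i j => f.symm_apply_apply _)
      right_inv := fun g => Subtype.ext (Matrix.ext fun i j => f.apply_symm_apply _)
      map_mul' := map_mul _ }
  have hc : (Subgroup.center (Matrix.SpecialLinearGroup (Fin 2) F)).map eSL.toMonoidHom =
      Subgroup.center (Matrix.SpecialLinearGroup (Fin 2) K) := by
    ext y
    simp only [Subgroup.mem_map, Subgroup.mem_center_iff, MulEquiv.coe_toMonoidHom]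
    constructor
    · rintro ⟨x, hx, rfl⟩ g
      obtain ⟨g', rfl⟩ := eSL.surjective g
      rw [← map_mul, hx, map_mul]
    · intro hy
      refine ⟨eSL.symm y, fun g => eSL.injective ?_, eSL.apply_symm_apply y⟩
      rw [map_mul, map_mul, eSL.apply_symm_apply]
      exact hy _
  exact ⟨QuotientGroup.congr _ _ eSL hc⟩

theorem psl_prime_field {G : Type*} [Group G] {F : Type*} [Field F] [Fintype F] {p : ℕ}
    [Fact p.Prime] (hF : Fintype.card F = p)
    (e : G ≃* Matrix.ProjectiveSpecialLinearGroup (Fin 2) F) :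
    Nonempty (G ≃* Matrix.ProjectiveSpecialLinearGroup (Fin 2) (ZMod p)) := by
  obtain ⟨e'⟩ := nonempty_psl_congr (
    (ZMod.ringEquivOfPrime F (Fact.out : p.Prime) hF).symm)
  exact ⟨e.trans e'⟩

theorem two_mul_card_psl {F : Type*} [Field F] [Fintype F] (hodd : Odd (Fintype.card F)) :
    2 * Nat.card (Matrix.ProjectiveSpecialLinearGroup (Fin 2) F) =
      (Fintype.card F + 1) * (Fintype.card F * (Fintype.card F - 1)) := by
  rw [← CfsgLib.PSL2.card_psl, CfsgLib.PSL2.gcd_eq_two hodd]

/-- Recognition by order of the groups `PSL(2, q)`. -/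
theorem card_eq_of_psl_card {F : Type*} [Field F] [Fintype F] (hodd : Odd (Fintype.card F)) {p : ℕ}
    (h : 2 * Nat.card (Matrix.ProjectiveSpecialLinearGroup (Fin 2) F) = (p + 1) * (p * (p - 1))) :
    Fintype.card F = p := by
  rw [two_mul_card_psl hodd] at h
  have hq : 1 < Fintype.card F := Fintype.one_lt_card
  rcases lt_trichotomy (Fintype.card F) p with hl | he | hl
  · exfalso
    have h1 : Fintype.card F * (Fintype.card F - 1) ≤ p * (p - 1) :=
      Nat.mul_le_mul hl.le (by omega)
    have h2 := Nat.mul_lt_mul_of_lt_of_le (show Fintype.card F + 1 < p + 1 by omega) h1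
      (Nat.mul_pos (by omega) (by omega))
    omega
  · exact he
  · exfalso
    have h1 : p * (p - 1) ≤ Fintype.card F * (Fintype.card F - 1) :=
      Nat.mul_le_mul hl.le (by omega)
    have h3 : 0 < Fintype.card F * (Fintype.card F - 1) := Nat.mul_pos (by omega) (by omega)
    have h2 : (p + 1) * (p * (p - 1)) < (Fintype.card F + 1) * (Fintype.card F * (Fintype.card F - 1)) :=
      lt_of_le_of_lt (Nat.mul_le_mul_left _ h1) (Nat.mul_lt_mul_of_pos_right (by omega) h3)
    omega

end CfsgLib.Suborbit3
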