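import Cfsg.Agent.Lib.Suborbit3.Concl
import Cfsg.Agent.Lib.Small.Order168Klein
import Cfsg.Agent.Lib.PSL2.Basic
import Cfsg.Agent.S3331
import Mathlib.LinearAlgebra.Projectivization.Action

/-!
# Stabilizers of order 3 and 6
-/

set_option autoImplicit false
set_option linter.style.haveILetI false

namespace CfsgLib.Suborbit3

open Subgroup

variable {G : Type*} [Group G] [Finite G]

/-- Sylow's congruence for a subgroup of order three. -/
theorem index_normalizer_mod_three (X : Subgroup G) (hX : Nat.card X = 3)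
    (h9 : ¬ 9 ∣ Nat.card G) : (normalizer (X : Set G)).index % 3 = 1 := by
  haveI : Fact (Nat.Prime 3) := ⟨Nat.prime_three⟩
  have h3 : 3 ∣ Nat.card G := hX ▸ card_subgroup_dvd_card X
  have hf : (Nat.card G).factorization 3 = 1 := by
    refine le_antisymm ?_ (Nat.prime_three.factorization_pos_of_dvd Nat.card_pos.ne' h3)
    by_contra h
    exact h9 ((show (9 : ℕ) = 3 ^ 2 by norm_num) ▸
      (pow_dvd_pow 3 (not_le.1 h)).trans (Nat.ordProj_dvd _ _))
  let P : Sylow 3 G := Sylow.ofCard X (by rw [hX, hf, pow_one])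
  have := card_sylow_modEq_one 3 G
  rw [Sylow.card_eq_index_normalizer P] at this
  have e : ((P : Subgroup G) : Set G) = (X : Set G) := by
    rw [show (P : Subgroup G) = X from Sylow.coe_ofCard _ _]
  rw [show (normalizer (X : Set G)).index = (normalizer ((P : Subgroup G) : Set G)).index by rw [e]]
  exact this

theorem card_a5 : Nat.card (alternatingGroup (Fin 5)) = 60 := by
  rw [nat_card_alternatingGroup, Nat.card_eq_fintype_card, Fintype.card_fin]
  rfl

theorem card_psl_seven [Fact (Nat.Prime 7)] :
    Nat.card (Matrix.ProjectiveSpecialLinearGroup (Fin 2) (ZMod 7)) = 168 := by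
  have h := CfsgLib.PSL2.card_psl (F := ZMod 7)
  rw [ZMod.card, show Nat.gcd 2 (7 - 1) = 2 from rfl] at h
  omega

variable {H L : Subgroup G} {g : G}

/-- Two outcomes of Feit–Thompson's theorem on self-centralising subgroups of order three. -/
theorem Hyp.self_centralizing (h : Hyp H L g) (X : Subgroup G) (hX : Nat.card X = 3)
    (hC : centralizer (X : Set G) = X) :
    Nonempty (G ≃* alternatingGroup (Fin 5)) ∨
      Nonempty (G ≃* Matrix.ProjectiveSpecialLinearGroup (Fin 2) (ZMod 7)) := by
  rcases Cfsg.Agent.S3331.result X hX hC with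
    ⟨N, hN, hnil, -, hq⟩ | ⟨N, hN, hab, -, ⟨e⟩⟩ | h7
  · exfalso
    haveI := hN
    have hN1 : N = ⊥ := h.eq_bot_of_solvable (haveI := hnil; inferInstance)
    subst hN1
    have hc : Nat.card (G ⧸ (⊥ : Subgroup G)) = Nat.card G := by
      rw [← index_eq_card, index_bot]
    refine h.insol (CfsgLib.Burnside.isSolvable_of_card_eq Nat.prime_two Nat.prime_three
      (if Nat.card G = 3 then 0 else 1) 1 ?_)
    rcases hq with hq | ⟨⟨e⟩⟩
    · rw [hc] at hq
      rw [if_pos hq, hq]
      rfl
    · have h6 : Nat.card G = 6 := by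
        rw [← hc, Nat.card_congr e.toEquiv, Nat.card_perm, Nat.card_eq_fintype_card,
          Fintype.card_fin]
        rfl
      rw [if_neg (by omega), h6]
      rfl
  · haveI := hN
    haveI := hab
    have hN1 : N = ⊥ := h.eq_bot_of_solvable
      (isSolvable_of_comm fun a b => (IsMulCommutative.is_comm (M := N)).comm a b)
    subst hN1
    exact Or.inl ⟨QuotientGroup.quotientBot.symm.trans e⟩
  · exact Or.inr h7

theorem Hyp.false_of_order_three (h : Hyp H L g) (hH : Nat.card H = 3) : False := by
  have hne : H ≠ ⊥ := h.data.ne_bot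
  have hN : normalizer (H : Set G) = H := h.normalizer_eq le_rfl hne le_normalizer
  haveI : Fact (Nat.Prime 3) := ⟨Nat.prime_three⟩
  haveI : IsCyclic H := isCyclic_of_prime_card hH
  have hC : centralizer (H : Set G) = H := by
    refine le_antisymm ((centralizer_le_normalizer _).trans hN.le) fun x hx => ?_
    letI : CommGroup H := IsCyclic.commGroup
    exact mem_centralizer_iff.2 fun y hy => congrArg Subtype.val (mul_comm (⟨y, hy⟩ : H) ⟨x, hx⟩)
  haveI : Fact (Nat.Prime 7) := ⟨by norm_num⟩
  have key : ∀ n, Nat.card G = n → ¬ 9 ∣ n → n / 3 % 3 = 2 → False := by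
    intro n hn h9 hm
    have h1 := index_normalizer_mod_three H hH (hn ▸ h9)
    have h2 := H.index_mul_card
    rw [hN] at h1
    rw [hH, hn] at h2
    omega
  rcases h.self_centralizing H hH hC with ⟨⟨e⟩⟩ | ⟨⟨e⟩⟩
  · exact key 60 (by rw [Nat.card_congr e.toEquiv, card_a5]) (by norm_num) rfl
  · exact key 168 (by rw [Nat.card_congr e.toEquiv, card_psl_seven]) (by norm_num) rfl

theorem perm_three_facts : ∀ a : Equiv.Perm (Fin 3),
    a * finRotate 3 = finRotate 3 * a → Equiv.Perm.sign a = 1 := by decide

/-- Stabilizer `S₃`: the group is `A₅`. -/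
theorem Hyp.case_symm_three (h : Hyp H L g) (J : Model H (Equiv.Perm (Fin 3))) :
    Nonempty (G ≃* alternatingGroup (Fin 5)) := by
  set X := (alternatingGroup (Fin 3)).map J.j with hX'
  have hX : Nat.card X = 3 := by
    rw [J.card_map, nat_card_alternatingGroup, Nat.card_eq_fintype_card, Fintype.card_fin]
    rfl
  have hXne : X ≠ ⊥ := fun e => by rw [e, card_bot] at hX; omega
  have hN : normalizer (X : Set G) = H :=
    h.normalizer_eq (J.map_le _) hXne (J.le_normalizer_map _)
  have hH : Nat.card H = 6 := by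
    rw [J.card_eq, Nat.card_perm, Nat.card_eq_fintype_card, Fintype.card_fin]
    rfl
  have hC : centralizer (X : Set G) = X := by
    refine le_antisymm (fun x hx => ?_) ?_
    · obtain ⟨a, rfl⟩ := J.exists_eq ((centralizer_le_normalizer _).trans hN.le hx)
      refine ⟨a, Equiv.Perm.mem_alternatingGroup.2 (perm_three_facts a (J.inj ?_)), rfl⟩
      rw [map_mul, map_mul]
      exact (mem_centralizer_iff.1 hx _ ⟨finRotate 3, Equiv.Perm.mem_alternatingGroup.2 (by decide), rfl⟩).symm
    · intro x hx
      haveI : Fact (Nat.Prime 3) := ⟨Nat.prime_three⟩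
      haveI : IsCyclic X := isCyclic_of_prime_card hX
      letI : CommGroup X := IsCyclic.commGroup
      exact mem_centralizer_iff.2 fun y hy =>
        congrArg Subtype.val (mul_comm (⟨y, hy⟩ : X) ⟨x, hx⟩)
  refine (h.self_centralizing X hX hC).resolve_right ?_
  rintro ⟨e⟩
  haveI : Fact (Nat.Prime 7) := ⟨by norm_num⟩
  haveI : Fact (Nat.Prime 2) := ⟨Nat.prime_two⟩
  haveI : Fact (Nat.Prime 3) := ⟨Nat.prime_three⟩
  have hG : Nat.card G = 168 := by rw [Nat.card_congr e.toEquiv, card_psl_seven]
  haveI : IsSimpleGroup (Matrix.ProjectiveSpecialLinearGroup (Fin 2) (ZMod 7)) :=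
    Matrix.ProjectiveSpecialLinearGroup.rank_two_simple (F := ZMod 7)
      (by rw [Nat.card_eq_fintype_card, ZMod.card]; norm_num)
  haveI : Nontrivial G := e.toEquiv.nontrivial
  haveI : IsSimpleGroup G :=
    IsSimpleGroup.isSimpleGroup_of_surjective e.symm.toMonoidHom e.symm.surjective
  obtain ⟨T⟩ := (inferInstance : Nonempty (Sylow 2 G))
  obtain ⟨U, -, -, -, -, hU, -, -⟩ := CfsgLib.Small.Order168.exists_two_klein hG T
  set M := normalizer (U : Set G) with hM
  have hMc : Nat.card M = 24 := CfsgLib.Small.Order168.card_normalizer_klein hG hU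
  -- a subgroup of order three of `M` and a conjugate of it in `H`
  obtain ⟨⟨y, hyM⟩, hy⟩ := exists_prime_orderOf_dvd_card' (G := M) 3 (by rw [hMc]; norm_num)
  rw [orderOf_mk] at hy
  have hYc : Nat.card (zpowers y) = 3 := by rw [Nat.card_zpowers, hy]
  have hf : (Nat.card G).factorization 3 = 1 := by
    rw [hG, show 168 = 3 ^ 1 * 56 by norm_num, Nat.factorization_mul (by norm_num) (by norm_num),
      Finsupp.add_apply, Nat.prime_three.factorization_pow, Finsupp.single_eq_same,
      Nat.factorization_eq_zero_of_not_dvd (by norm_num)]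
  let P : Sylow 3 G := Sylow.ofCard X (by rw [hX, hf, pow_one])
  let Q : Sylow 3 G := Sylow.ofCard (zpowers y) (by rw [hYc, hf, pow_one])
  obtain ⟨k, hk⟩ := MulAction.exists_smul_eq G P Q
  have hkX : X.map (MulAut.conj k).toMonoidHom = zpowers y := by
    have := congrArg (fun S : Sylow 3 G => (S : Subgroup G)) hk
    simp only [Sylow.coe_subgroup_smul, Sylow.coe_ofCard, P, Q] at this
    exact this
  -- the normalizer of the Sylow subgroup lies in `M`
  have hle : zpowers y ≤ M := zpowers_le.2 hyM
  set Y' := (zpowers y).subgroupOf M with hY'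
  have hY'c : Nat.card Y' = 3 := by rw [Nat.card_congr (subgroupOfEquivOfLe hle).toEquiv, hYc]
  have hmod := index_normalizer_mod_three Y' hY'c (by rw [hMc]; norm_num)
  have hmul := (normalizer (Y' : Set M)).index_mul_card
  rw [hMc] at hmul
  have hmap : normalizer ((zpowers y : Subgroup G) : Set G) = H.map (MulAut.conj k).toMonoidHom := by
    rw [← hkX, ← hN]
    exact (map_equiv_normalizer_eq X (MulAut.conj k)).symm
  have hNy : Nat.card (normalizer ((zpowers y : Subgroup G) : Set G)) = 6 := by
    rw [hmap, card_map_of_injective (f := (MulAut.conj k).toMonoidHom) (MulAut.conj k).injective, hH]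
  have hsub : (normalizer (Y' : Set M)).map M.subtype ≤
      normalizer ((zpowers y : Subgroup G) : Set G) := by
    refine (le_normalizer_map _).trans (le_of_eq ?_)
    rw [hY', map_subgroupOf_eq_of_le hle]
  have h6 : Nat.card (normalizer (Y' : Set M)) ≤ 6 := by
    rw [← hNy, ← card_map_of_injective M.subtype_injective]
    exact card_le_of_le hsub
  have hidx : (normalizer (Y' : Set M)).index ≤ 4 := by
    have hd : (normalizer (Y' : Set M)).index ∣ 8 := by
      have h1 : Nat.card Y' ∣ Nat.card (normalizer (Y' : Set M)) := card_dvd_of_le le_normalizer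
      rw [hY'c] at h1
      obtain ⟨c, hc⟩ := h1
      rw [hc] at hmul
      exact ⟨c, by linarith⟩
    rcases (Nat.dvd_prime_pow Nat.prime_two (m := 3)).1 hd with ⟨i, hi, e'⟩
    rw [e'] at hmod ⊢
    interval_cases i <;> simp_all
  have h6' : Nat.card (normalizer (Y' : Set M)) = 6 := by
    have : Nat.card (normalizer (Y' : Set M)) * (normalizer (Y' : Set M)).index = 24 := by
      rw [mul_comm]; exact hmul
    rcases Nat.lt_or_ge (Nat.card (normalizer (Y' : Set M))) 6 with h' | h'
    · nlinarith
    · omega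
  have heq : H.map (MulAut.conj k).toMonoidHom ≤ M := by
    rw [← hmap, ← eq_of_le_of_card_ge hsub (by
      rw [card_map_of_injective M.subtype_injective, h6', hNy])]
    exact map_subtype_le _
  have hHM : H ≤ M.map (MulAut.conj k⁻¹).toMonoidHom := fun x hx => by
    refine ⟨k * x * k⁻¹, heq ⟨x, hx, rfl⟩, ?_⟩
    simp [mul_assoc]
  have hc24 : Nat.card (M.map (MulAut.conj k⁻¹).toMonoidHom) = 24 := by
    rw [card_map_of_injective (f := (MulAut.conj k⁻¹).toMonoidHom) (MulAut.conj k⁻¹).injective, hMc]
  rcases hHM.eq_or_lt with e' | e'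
  · rw [← e', hH] at hc24
    omega
  · rw [h.data.hmax.2 _ e', card_top, hG] at hc24
    omega

end CfsgLib.Suborbit3
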