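import Cfsg.Agent.Lib.Recognition.SubdegThree.Main
import Cfsg.Agent.Lib.Characters.Burnside
import Cfsg.Agent.Lib.Structure.Subnormal
import Cfsg.Agent.S0205

/-!
# Insoluble groups with a suborbit of length three: general facts

`H` is a point stabilizer, `L` the two-point stabilizer, `g` moves one point to the other and
normalizes `L`.
-/

set_option autoImplicit false

namespace CfsgLib.Suborbit3

open Subgroup CfsgLib.Recognition.SubdegThree

variable {G : Type*} [Group G] [Finite G] {H L : Subgroup G} {g : G}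

/-- The hypotheses: the data of a suborbit of length three in an insoluble group. -/
structure Hyp (H L : Subgroup G) (g : G) : Prop where
  data : Data H L g
  insol : ¬ Group.IsSolvable G

namespace Hyp

variable (h : Hyp H L g)
include h

theorem card_H : Nat.card H = Nat.card L * 3 := by
  rw [← relIndex_bot_left, ← relIndex_mul_relIndex ⊥ L H bot_le h.data.hLH, h.data.hidx,
    relIndex_bot_left]

theorem exists_card : ∃ k : ℕ, Nat.card H = 2 ^ k * 3 ∧ Nat.card L = 2 ^ k := by
  obtain ⟨k, hk⟩ := IsPGroup.iff_card.mp h.data.h2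
  exact ⟨k, by rw [h.card_H, hk], hk⟩

theorem solvable_H : Group.IsSolvable H := by
  obtain ⟨k, hk, -⟩ := h.exists_card
  exact CfsgLib.Burnside.isSolvable_of_card_eq Nat.prime_two Nat.prime_three k 1
    (by rw [hk, pow_one])

theorem ne_top : H ≠ ⊤ := h.data.hmax.1

theorem L_le_cj : L ≤ cj g H := by
  intro y hy
  rw [mem_cj]
  refine h.data.hLH ?_
  have := (mem_normalizer_iff.mp (inv_mem h.data.hg) y).mp hy
  simpa [mul_assoc] using this

theorem cj_ne : cj g H ≠ H := fun e =>
  h.data.hgH (h.data.normalizer_eq_self ▸ mem_normalizer_of_conj fun y hy => by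
    exact e.le (⟨y, hy, rfl⟩ : g * y * g⁻¹ ∈ cj g H))

theorem inf_cj : H ⊓ cj g H = L := by
  rcases h.data.eq_of_lt (le_inf h.data.hLH h.L_le_cj) (inf_le_left : H ⊓ cj g H ≤ H) with e | e
  · exact e
  · exact absurd (eq_of_le_of_card_ge (inf_eq_left.mp e)
      (card_map_of_injective (MulAut.conj g).injective).le).symm h.cj_ne

/-- A nontrivial subgroup of `H` normalized by `H` has normalizer `H`. -/
theorem normalizer_eq {N : Subgroup G} (h1 : N ≤ H) (hne : N ≠ ⊥)
    (h2 : H ≤ normalizer (N : Set G)) : normalizer (N : Set G) = H :=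
  CfsgLib.Maximal.TW.normalizer_eq h.data.hmax h.data.hcore h1 hne h2

theorem normalizer_le {N : Subgroup G} (h1 : N ≤ H) (hne : N ≠ ⊥)
    (h2 : H ≤ normalizer (N : Set G)) : centralizer (N : Set G) ≤ H :=
  (centralizer_le_normalizer _).trans (h.normalizer_eq h1 hne h2).le

theorem not_le_of_normal {N : Subgroup G} [N.Normal] (hne : N ≠ ⊥) : ¬ N ≤ H := fun hle =>
  hne (eq_bot_iff.mpr ((normal_le_normalCore.mpr hle).trans h.data.hcore.le))

theorem sup_normal_eq_top {N : Subgroup G} [N.Normal] (hne : N ≠ ⊥) : N ⊔ H = ⊤ :=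
  h.data.hmax.2 _ (lt_of_le_of_ne le_sup_right fun e =>
    h.not_le_of_normal hne (e.ge.trans' le_sup_left))

/-- The soluble radical is trivial. -/
theorem eq_bot_of_solvable {N : Subgroup G} [N.Normal] (hs : Group.IsSolvable N) : N = ⊥ := by
  by_contra hne
  refine h.insol ?_
  have := h.solvable_H
  have := hs
  have htop : Group.IsSolvable (⊤ : Subgroup G) := by
    rw [← h.sup_normal_eq_top hne]
    exact CfsgLib.Structure.isSolvable_sup_of_le_normalizer
      (le_of_le_of_eq le_top (normalizer_eq_top (H := N)).symm)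
  exact solvable_of_surjective (f := (⊤ : Subgroup G).subtype)
    fun x => ⟨⟨x, mem_top x⟩, rfl⟩

theorem even_of_normal {N : Subgroup G} [N.Normal] (hne : N ≠ ⊥) : 2 ∣ Nat.card N := by
  by_contra h2
  exact hne (h.eq_bot_of_solvable
    (Cfsg.Agent.S0205.result (Nat.not_even_iff_odd.1 fun he => h2 he.two_dvd)))

theorem exists_involution_mem {N : Subgroup G} [N.Normal] (hne : N ≠ ⊥) :
    ∃ u ∈ N, orderOf u = 2 := by
  obtain ⟨⟨u, hu⟩, hou⟩ := exists_prime_orderOf_dvd_card' (G := N) 2 (h.even_of_normal hne)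
  exact ⟨u, hu, by rwa [orderOf_mk] at hou⟩

end Hyp

end CfsgLib.Suborbit3
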