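import Cfsg.Agent.Lib.Suborbit3.Basic
import Mathlib.LinearAlgebra.Matrix.GeneralLinearGroup.Defs
import Mathlib.LinearAlgebra.Matrix.SpecialLinearGroup
import Mathlib.LinearAlgebra.Matrix.ProjectiveSpecialLinearGroup
import Mathlib.Data.ZMod.Basic

/-!
# The list of conclusions, and models of the stabilizer
-/

set_option autoImplicit false

namespace CfsgLib.Suborbit3

open Subgroup

/-- The groups with a suborbit of length three. -/
def Concl (G : Type*) [Group G] : Prop :=
  Nonempty (G ≃* alternatingGroup (Fin 5)) ∨ Nonempty (G ≃* Equiv.Perm (Fin 5)) ∨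
    Nonempty (G ≃* GL (Fin 2) (ZMod 7) ⧸ Subgroup.center (GL (Fin 2) (ZMod 7))) ∨
    Nonempty (G ≃* Matrix.ProjectiveSpecialLinearGroup (Fin 2) (ZMod 11)) ∨
    Nonempty (G ≃* Matrix.ProjectiveSpecialLinearGroup (Fin 2) (ZMod 13)) ∨
    (∃ p : ℕ, p.Prime ∧ (p % 16 = 1 ∨ p % 16 = 15) ∧
      Nonempty (G ≃* Matrix.ProjectiveSpecialLinearGroup (Fin 2) (ZMod p))) ∨
    Nonempty (G ≃* Matrix.ProjectiveSpecialLinearGroup (Fin 3) (ZMod 3)) ∨
    (∃ N : Subgroup G, N.Normal ∧ N.index = 2 ∧ Subgroup.centralizer (N : Set G) = ⊥ ∧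
      Nonempty (N ≃* Matrix.ProjectiveSpecialLinearGroup (Fin 3) (ZMod 3)))

variable {G : Type*} [Group G] {H : Subgroup G}

/-- An injective parametrisation of `H` by a model group. -/
structure Model (H : Subgroup G) (A : Type*) [Group A] where
  /-- the parametrisation -/
  j : A →* G
  inj : Function.Injective j
  range : j.range = H

/-- The parametrisation coming from an isomorphism. -/
def Model.ofEquiv {A : Type*} [Group A] (e : H ≃* A) : Model H A where
  j := H.subtype.comp e.symm.toMonoidHom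
  inj := H.subtype_injective.comp e.symm.injective
  range := by
    rw [MonoidHom.range_comp, MonoidHom.range_eq_top.2 e.symm.surjective, ← MonoidHom.range_eq_map,
      range_subtype]

namespace Model

variable {A : Type*} [Group A] (J : Model H A)
include J

theorem mem (a : A) : J.j a ∈ H := J.range.le ⟨a, rfl⟩

theorem exists_eq {x : G} (hx : x ∈ H) : ∃ a, J.j a = x := J.range.ge hx

theorem card_eq : Nat.card H = Nat.card A := by
  rw [← J.range, Nat.card_congr (MonoidHom.ofInjective J.inj).toEquiv]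

theorem card_map (K : Subgroup A) : Nat.card (K.map J.j) = Nat.card K :=
  card_map_of_injective J.inj

theorem map_le (K : Subgroup A) : K.map J.j ≤ H := by
  rintro _ ⟨a, -, rfl⟩; exact J.mem a

theorem map_ne_bot {K : Subgroup A} (hK : K ≠ ⊥) : K.map J.j ≠ ⊥ :=
  fun e => hK ((map_eq_bot_iff_of_injective _ J.inj).1 e)

theorem le_normalizer_map (K : Subgroup A) [K.Normal] [Finite G] :
    H ≤ normalizer (K.map J.j : Set G) := by
  intro x hx
  obtain ⟨a, rfl⟩ := J.exists_eq hx
  refine CfsgLib.Recognition.SubdegThree.mem_normalizer_of_conj ?_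
  rintro _ ⟨b, hb, rfl⟩
  exact ⟨a * b * a⁻¹, Normal.conj_mem inferInstance b hb a, by simp [map_mul, map_inv]⟩

end Model

end CfsgLib.Suborbit3
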