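import Cfsg.Agent.Lib.Schur.AutAlternating
import Cfsg.Agent.Lib.AutPSL.OutPSL
import Cfsg.Agent.Lib.Suborbit3.Three

/-!
# Extensions of `A₅` and `PSL(2, 7)` by an outer automorphism of order two
-/

set_option autoImplicit false
set_option linter.style.haveILetI false

namespace CfsgLib.Suborbit3

open Subgroup Matrix

variable {G : Type*} [Group G] [Finite G]

/-- The conjugation action on a normal subgroup with trivial centralizer is faithful. -/
theorem conjNormal_injective (N : Subgroup G) [N.Normal] (hC : centralizer (N : Set G) = ⊥) :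
    Function.Injective (MulAut.conjNormal : G →* MulAut N) := by
  rw [injective_iff_map_eq_one]
  intro x hx
  rw [← mem_bot, ← hC, mem_centralizer_iff]
  intro y hy
  have h := congrArg Subtype.val (DFunLike.congr_fun hx ⟨y, hy⟩)
  simp only [MulAut.conjNormal_apply, MulAut.one_apply] at h
  exact (mul_inv_eq_iff_eq_mul.1 h).symm

/-- A group with a normal subgroup `N`, trivial centralizer, and as many elements as the
automorphism group of `N`, is that automorphism group. -/
theorem equiv_of_normal (N : Subgroup G) [N.Normal] (hC : centralizer (N : Set G) = ⊥) {B A : Type*}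
    [Group B] [Group A] [Finite A] (e : N ≃* B) (f : A ≃* MulAut B)
    (hcard : Nat.card G = Nat.card A) : Nonempty (G ≃* A) := by
  let φ : G →* A := f.symm.toMonoidHom.comp
    ((MulAut.congr e).toMonoidHom.comp (MulAut.conjNormal : G →* MulAut N))
  have hinj : Function.Injective φ :=
    f.symm.injective.comp ((MulAut.congr e).injective.comp (conjNormal_injective N hC))
  exact ⟨MulEquiv.ofBijective φ ((Nat.bijective_iff_injective_and_card φ).2 ⟨hinj, hcard⟩)⟩

theorem perm_five_of_normal (N : Subgroup G) [N.Normal] (hi : N.index = 2)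
    (hC : centralizer (N : Set G) = ⊥) (e : N ≃* alternatingGroup (Fin 5)) :
    Nonempty (G ≃* Equiv.Perm (Fin 5)) := by
  refine equiv_of_normal N hC e
    (MulEquiv.ofBijective _ (CfsgLib.Schur.conjNormal_bijective (by norm_num) (by norm_num))) ?_
  have h := N.index_mul_card
  rw [hi, Nat.card_congr e.toEquiv, card_a5] at h
  rw [Nat.card_perm, Nat.card_eq_fintype_card (α := Fin 5), Fintype.card_fin, ← h]
  rfl

theorem pgl_seven_of_normal [Fact (Nat.Prime 7)] (N : Subgroup G) [N.Normal] (hi : N.index = 2)
    (hC : centralizer (N : Set G) = ⊥)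
    (e : N ≃* Matrix.ProjectiveSpecialLinearGroup (Fin 2) (ZMod 7)) :
    Nonempty (G ≃* GL (Fin 2) (ZMod 7) ⧸ Subgroup.center (GL (Fin 2) (ZMod 7))) := by
  let cA : GL (Fin 2) (ZMod 7) →* MulAut (CfsgLib.AutPSL.PSLG 2 (ZMod 7)) :=
    CfsgLib.AutPSL.conjAut
  have hσ : ∀ σ : ZMod 7 ≃+* ZMod 7, σ = 1 := fun σ => RingEquiv.ext fun a => by
    have := RingHom.ext_zmod σ.toRingHom (RingHom.id (ZMod 7))
    exact DFunLike.congr_fun this a
  have hsurj : Function.Surjective cA := by
    intro β
    obtain ⟨a, σ, h | h⟩ := CfsgLib.AutPSL.aut_psl_structure le_rfl β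
    · exact ⟨a, by rw [h, hσ σ, map_one, mul_one]⟩
    · obtain ⟨w, hw⟩ := CfsgLib.AutPSL.iotaAut_two (F := ZMod 7)
      exact ⟨a * w, by rw [h, hσ σ, map_one, mul_one, ← hw, map_mul]⟩
  have hker : cA.ker = Subgroup.center (GL (Fin 2) (ZMod 7)) := by
    ext x
    constructor
    · intro hx
      exact (CfsgLib.AutPSL.eq_one_of_conj_field le_rfl (g := x) (σ := 1)
        (by rw [map_one, mul_one]; exact hx)).1
    · intro hx
      rw [MonoidHom.mem_ker]
      apply MulEquiv.ext
      intro y
      induction y using QuotientGroup.induction_on with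
      | H t =>
        show QuotientGroup.mk (CfsgLib.AutPSL.slConj x t) = _
        congr 1
        apply Subtype.ext
        rw [CfsgLib.AutPSL.slConj_coe]
        have hc := mem_center_iff.1 hx (Matrix.SpecialLinearGroup.toGL t)
        have := congrArg Units.val hc
        simp only [Units.val_mul] at this
        change _ * t.1 * _ = t.1
        rw [show ((x : Matrix (Fin 2) (Fin 2) (ZMod 7))) * t.1 = t.1 * (x : Matrix (Fin 2) (Fin 2) (ZMod 7))
          from this.symm, Matrix.mul_assoc, ← Units.val_mul, mul_inv_cancel, Units.val_one,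
          Matrix.mul_one]
  let f := (QuotientGroup.quotientMulEquivOfEq hker.symm).trans
    (QuotientGroup.quotientKerEquivOfSurjective cA hsurj)
  refine equiv_of_normal N hC e f ?_
  have h := N.index_mul_card
  rw [hi, Nat.card_congr e.toEquiv, card_psl_seven] at h
  have h2 : Nat.card (ProjGenLinGroup (Fin 2) (ZMod 7)) = 336 := by
    rw [CfsgLib.PSL2.card_pgl, ZMod.card]
  show Nat.card G = Nat.card (ProjGenLinGroup (Fin 2) (ZMod 7))
  omega

end CfsgLib.Suborbit3
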