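import Cfsg.Agent.S3224
import Cfsg.Agent.Lib.TwoGroups.Semidihedral
import Cfsg.Agent.Lib.Transfer.Basic

/-!
# A 2-group with a self-centralising four-group, and Thompson transfer
-/

set_option autoImplicit false

namespace CfsgLib.Suborbit3

open Subgroup

/-- The rotations of a dihedral group of 2-power order at least 8: involutions are central. -/
theorem dihedral_rot_central {n : ℕ} [NeZero n] (x : DihedralGroup n)
    (hx : x ∈ zpowers (DihedralGroup.r (1 : ZMod n))) (h2 : x * x = 1) (s : DihedralGroup n) :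
    s * x = x * s := by
  obtain ⟨i, rfl⟩ := mem_zpowers_iff.1 hx
  obtain ⟨a, ha⟩ : ∃ a : ZMod n, DihedralGroup.r (1 : ZMod n) ^ i = DihedralGroup.r a :=
    ⟨_, DihedralGroup.r_one_zpow i⟩
  rw [ha, DihedralGroup.r_mul_r, DihedralGroup.one_def, DihedralGroup.r.injEq] at h2
  rw [ha]
  rcases s with b | b
  · rw [DihedralGroup.r_mul_r, DihedralGroup.r_mul_r, add_comm]
  · rw [DihedralGroup.sr_mul_r, DihedralGroup.r_mul_sr, DihedralGroup.sr.injEq]
    linear_combination h2

/-- A 2-group of order at least 8 with an involution whose centralizer has order 4 has a subgroup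
of index two all whose involutions are central. -/
theorem exists_index_two_central {S : Type*} [Group S] [Finite S] (hS : IsPGroup 2 S)
    {x : S} (hx : orderOf x = 2) (hC : Nat.card (centralizer ({x} : Set S)) = 4)
    (h8 : Nat.card S ≠ 4) :
    ∃ T : Subgroup S, T.index = 2 ∧ ∀ t ∈ T, t * t = 1 → t ∈ center S := by
  rcases Cfsg.Agent.S3224.result hS x hx hC with ⟨n, ⟨e⟩⟩ | hQD | h4
  · have hcard : Nat.card S = 2 * n := by rw [Nat.card_congr e.toEquiv, DihedralGroup.nat_card]
    have hn : n ≠ 0 := fun h => by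
      have := Nat.card_pos (α := S)
      omega
    haveI : NeZero n := ⟨hn⟩
    refine ⟨(zpowers (DihedralGroup.r (1 : ZMod n))).comap e.toMonoidHom, ?_, fun t ht h2 => ?_⟩
    · rw [index_comap_of_surjective _ e.surjective]
      have h := (zpowers (DihedralGroup.r (1 : ZMod n))).index_mul_card
      rw [Nat.card_zpowers, DihedralGroup.orderOf_r_one, DihedralGroup.nat_card] at h
      exact Nat.eq_of_mul_eq_mul_right (Nat.pos_of_ne_zero hn) h
    · refine mem_center_iff.2 fun s => e.injective ?_
      rw [map_mul, map_mul]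
      exact dihedral_rot_central _ ht (by rw [MulEquiv.coe_toMonoidHom, ← map_mul, h2, map_one]) _
  · obtain ⟨r, a, b, hsd⟩ := CfsgLib.TwoGroups.SD.exists_sd hQD
    refine ⟨zpowers a, CfsgLib.TwoGroups.SD.index_zpowers hsd, fun t ht h2 => ?_⟩
    obtain ⟨k, rfl⟩ := mem_zpowers_iff.1 ht
    by_cases h1 : a ^ k = 1
    · rw [h1]; exact one_mem _
    have ho : orderOf (a ^ k) = 2 := orderOf_eq_prime (by rw [pow_two]; exact h2) h1
    have hk : a ^ k = a ^ (4 * r : ℤ) := (CfsgLib.TwoGroups.SD.orderOf_zpow_eq_two hsd).1 ho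
    rw [hk, CfsgLib.TwoGroups.SD.center_eq hsd]
    exact mem_zpowers _
  · exact absurd h4 h8

/-- Thompson transfer from an involution whose centralizer has a small 2-part. -/
theorem exists_index_two {G : Type*} [Group G] [Finite G] (S : Sylow 2 G) {z : G} (hz : orderOf z = 2)
    (hzS : z ∈ (S : Subgroup G))
    (hC : Nat.card ((S : Subgroup G) ⊓ centralizer ({z} : Set G) : Subgroup G) = 4)
    (hnd : ¬ Nat.card (S : Subgroup G) ∣ Nat.card (centralizer ({z} : Set G))) :
    ∃ M : Subgroup G, M.Normal ∧ M.index = 2 ∧ z ∉ M := by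
  haveI : Fact (Nat.Prime 2) := ⟨Nat.prime_two⟩
  have hx : orderOf (⟨z, hzS⟩ : (S : Subgroup G)) = 2 := by rw [orderOf_mk]; exact hz
  have hCS : Nat.card (centralizer ({(⟨z, hzS⟩ : (S : Subgroup G))} : Set (S : Subgroup G))) = 4 := by
    rw [← hC, ← card_map_of_injective (S : Subgroup G).subtype_injective]
    refine congrArg (fun X : Subgroup G => Nat.card X) ?_
    ext y
    simp [mem_map, mem_centralizer_singleton_iff, Subtype.ext_iff, and_comm]
  have h8 : Nat.card (S : Subgroup G) ≠ 4 := fun h4 =>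
    hnd (h4.trans hC.symm ▸ card_dvd_of_le inf_le_right)
  obtain ⟨T, hT, hTc⟩ := exists_index_two_central S.isPGroup' hx hCS h8
  refine CfsgLib.Transfer.thompson_transfer S (T.map (S : Subgroup G).subtype) ?_ z
    (by rw [← hz, pow_orderOf_eq_one]) fun g hg hQ => ?_
  · rw [relIndex, subgroupOf, comap_map_eq_self_of_injective (S : Subgroup G).subtype_injective, hT]
  · obtain ⟨t, ht, hte⟩ := hQ
    have ht2 : t * t = 1 := Subtype.ext (by
      rw [Subgroup.coe_mul, Subgroup.coe_one, show (t : G) = g * z * g⁻¹ from hte,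
        show g * z * g⁻¹ * (g * z * g⁻¹) = g * (z * z) * g⁻¹ by group, ← pow_two,
        show z ^ 2 = 1 by rw [← hz, pow_orderOf_eq_one], mul_one, mul_inv_cancel])
    have hcen := hTc t ht ht2
    refine hnd ?_
    have hle : (S : Subgroup G).map (MulAut.conj g⁻¹).toMonoidHom ≤ centralizer ({z} : Set G) := by
      rintro _ ⟨s, hs, rfl⟩
      rw [mem_centralizer_singleton_iff]
      have h1 : s * (g * z * g⁻¹) = g * z * g⁻¹ * s := by
        have := congrArg Subtype.val (mem_center_iff.1 hcen ⟨s, hs⟩)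
        simpa [show (t : G) = g * z * g⁻¹ from hte] using this
      simp only [MulEquiv.coe_toMonoidHom, MulAut.conj_apply, inv_inv]
      calc g⁻¹ * s * g * z = g⁻¹ * (s * (g * z * g⁻¹)) * g := by group
        _ = g⁻¹ * (g * z * g⁻¹ * s) * g := by rw [h1]
        _ = z * (g⁻¹ * s * g) := by group
    rw [← card_map_of_injective (f := (MulAut.conj g⁻¹).toMonoidHom) (MulAut.conj g⁻¹).injective]
    exact card_dvd_of_le hle

end CfsgLib.Suborbit3
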