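import Cfsg.Agent.Lib.Suborbit3.TwelveBase
import Cfsg.Agent.Lib.Suborbit3.TwoTransfer
import Cfsg.Agent.Lib.Suborbit3.SmallAut
import Cfsg.Agent.Lib.Suborbit3.PSLRecog
import Cfsg.Agent.Lib.BSW.Main
import Cfsg.Agent.Lib.BSW.Recog

/-!
# Stabilizer dihedral of order 12
-/

set_option autoImplicit false
set_option linter.style.haveILetI false

namespace CfsgLib.Suborbit3

open Subgroup DihedralGroup

variable {G : Type*} [Group G] [Finite G] {H L : Subgroup G} {g : G}

theorem Hyp.twelve_small_case (h : Hyp H L g) (J : Model H (DihedralGroup 6)) (S : Sylow 2 G)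
    (hLS : L = (S : Subgroup G)) :
    Nonempty (G ≃* Matrix.ProjectiveSpecialLinearGroup (Fin 2) (ZMod 11)) ∨
      Nonempty (G ≃* Matrix.ProjectiveSpecialLinearGroup (Fin 2) (ZMod 13)) := by
  classical
  haveI : Fact (Nat.Prime 2) := ⟨Nat.prime_two⟩
  set z := J.z
  set w := g * z * g⁻¹ with hw
  have hz := h.z_mem_L J
  have hwL := h.conj_z_mem_L J
  have hww : g * w * g⁻¹ = z * w := by
    rcases h.cases_L J ((mem_normalizer_iff.1 h.data.hg w).1 hwL) with e | e | e | e
    · exact absurd (conj_eq_one_iff.1 (conj_eq_one_iff.1 e)) J.z_ne_one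
    · exfalso
      -- `g` would normalise `L` with square in `L`, so lie in the Sylow subgroup `L`
      have hg2 : g * g ∈ L := by
        rw [← h.cent_L J, mem_centralizer_iff]
        intro y hy
        have hfix : ∀ y ∈ L, g * g * y * (g * g)⁻¹ = y := by
          have e1 : g * g * z * (g * g)⁻¹ = z := by
            calc g * g * z * (g * g)⁻¹ = g * (g * z * g⁻¹) * g⁻¹ := by group
              _ = z := e
          have e2 : g * g * w * (g * g)⁻¹ = w := by
            calc g * g * w * (g * g)⁻¹ = g * (g * w * g⁻¹) * g⁻¹ := by group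
              _ = w := by rw [e]
          intro y hy
          rcases h.cases_L J hy with rfl | rfl | rfl | rfl
          · group
          · exact e1
          · exact e2
          · rw [← conj_mul, e1, e2]
        exact (mul_inv_eq_iff_eq_mul.1 (hfix y hy)).symm
      have hgp : IsPGroup 2 (zpowers g) := IsPGroup.of_card_dvd_pow (n := 2) (by
        rw [Nat.card_zpowers]
        refine orderOf_dvd_of_pow_eq_one ?_
        rw [show g ^ 2 ^ 2 = g * g * (g * g) by norm_num [pow_succ, mul_assoc]]
        exact h.sq_L J hg2)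
      have hsup : IsPGroup 2 (L ⊔ zpowers g : Subgroup G) :=
        IsPGroup.to_sup_of_normal_left' h.data.h2 hgp (zpowers_le.2 h.data.hg)
      have := S.is_maximal' hsup (hLS ▸ le_sup_left)
      exact h.data.hgH (h.data.hLH (hLS ▸ this ▸ mem_sup_right (mem_zpowers g)))
    · exact absurd (mul_left_cancel (mul_right_cancel e)) (h.conj_z_ne J)
    · exact e
  have hinv : ∀ v : G, orderOf v = 2 → ∃ k : G, k * z * k⁻¹ = v := by
    intro v hv
    obtain ⟨P, hP⟩ := (IsPGroup.of_card (n := 1) (G := zpowers v)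
      (by rw [Nat.card_zpowers, hv, pow_one])).exists_le_sylow
    obtain ⟨c, hc⟩ := MulAction.exists_smul_eq G P S
    have hcv : c * v * c⁻¹ ∈ L := by
      rw [hLS, ← hc]
      exact ⟨v, hP (mem_zpowers v), rfl⟩
    rcases h.cases_L J hcv with e | e | e | e
    · exact absurd (conj_eq_one_iff.1 e) (fun e' => by rw [e', orderOf_one] at hv; omega)
    · change c * v * c⁻¹ = z at e
      exact ⟨c⁻¹, by rw [← e]; group⟩
    · change c * v * c⁻¹ = w at e
      exact ⟨c⁻¹ * g, by rw [show c⁻¹ * g * z * (c⁻¹ * g)⁻¹ = c⁻¹ * w * c by rw [hw]; group, ← e]; group⟩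
    · change c * v * c⁻¹ = z * w at e
      exact ⟨c⁻¹ * (g * g), by
        rw [show c⁻¹ * (g * g) * z * (c⁻¹ * (g * g))⁻¹ = c⁻¹ * (g * w * g⁻¹) * c by rw [hw]; group,
          hww, ← e]; group⟩
  have hgen : ∀ a : DihedralGroup 6, ∃ i j : ZMod 6, a = sr i * sr j ∨ a = sr i := by
    rintro (i | i)
    · exact ⟨0, i, Or.inl (by rw [sr_mul_sr, sub_zero])⟩
    · exact ⟨i, 0, Or.inr rfl⟩
  have hsr : ∀ i : ZMod 6, orderOf (J.j (sr i)) = 2 := fun i => by
    rw [orderOf_injective J.j J.inj, orderOf_sr]
  haveI : Nontrivial G := ⟨⟨z, 1, J.z_ne_one⟩⟩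
  haveI : IsSimpleGroup G := ⟨fun N hN => by
    by_contra hc
    push Not at hc
    obtain ⟨hb, ht⟩ := hc
    obtain ⟨v, hvN, hv⟩ := h.exists_involution_mem hb
    obtain ⟨k, hk⟩ := hinv v hv
    have hzN : z ∈ N := by
      have := hN.conj_mem v hvN k⁻¹
      rwa [← hk, show k⁻¹ * (k * z * k⁻¹) * k⁻¹⁻¹ = z by group] at this
    have hall : ∀ u : G, orderOf u = 2 → u ∈ N := fun u hu => by
      obtain ⟨k, rfl⟩ := hinv u hu
      exact hN.conj_mem z hzN k
    have hHN : H ≤ N := fun x hx => by
      obtain ⟨a, rfl⟩ := J.exists_eq hx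
      obtain ⟨i, j, rfl | rfl⟩ := hgen a
      · rw [map_mul]; exact mul_mem (hall _ (hsr i)) (hall _ (hsr j))
      · exact hall _ (hsr i)
    exact ht (by rw [← h.sup_normal_eq_top hb, sup_eq_left.2 hHN])⟩
  set K := (zpowers (r 1 : DihedralGroup 6)).map J.j with hK
  have hKmem : ∀ {x : G}, x ∈ K → ∃ i : ZMod 6, x = J.j (r i) := by
    rintro x ⟨a, ha, rfl⟩
    obtain ⟨n, rfl⟩ := mem_zpowers_iff.1 ha
    exact ⟨_, by rw [r_one_zpow]⟩
  have hrK : ∀ i : ZMod 6, J.j (r i) ∈ K := fun i =>
    ⟨r i, mem_zpowers_iff.2 ⟨(i.val : ℤ), by rw [zpow_natCast, r_one_pow, ZMod.natCast_zmod_val]⟩, rfl⟩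
  have hsinv : ∀ i : ZMod 6, J.j (sr 0) * J.j (r i) * (J.j (sr 0))⁻¹ = (J.j (r i))⁻¹ := fun i => by
    rw [← map_mul, ← map_inv, ← map_mul, ← map_inv, inv_sr, inv_r, sr_mul_r, sr_mul_sr, zero_add,
      zero_sub]
  have hsK : J.j (sr 0) ∉ K := fun hm => by
    obtain ⟨i, e⟩ := hKmem hm
    exact nomatch (J.inj e)
  have hset : CfsgLib.BSW.Setup K z (J.j (sr 0)) :=
    { ht := J.orderOf_z
      hs := hsr 0
      htK := hrK 3
      hsK := hsK
      comm := fun x hx y hy => by
        obtain ⟨i, rfl⟩ := hKmem hx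
        obtain ⟨j, rfl⟩ := hKmem hy
        rw [← map_mul, ← map_mul, r_mul_r, r_mul_r, add_comm]
      inv := fun x hx => by
        obtain ⟨i, rfl⟩ := hKmem hx
        exact hsinv i
      cent := by
        rw [h.cent_z J]
        refine le_antisymm (fun x hx => ?_) (sup_le (J.map_le _) (zpowers_le.2 (J.mem _)))
        obtain ⟨a, rfl⟩ := J.exists_eq hx
        rcases a with i | i
        · exact mem_sup_left (hrK i)
        · rw [show (sr i : DihedralGroup 6) = r (-i) * sr 0 by rw [r_mul_sr, zero_sub, neg_neg], map_mul]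
          exact mul_mem (mem_sup_left (hrK _)) (mem_sup_right (mem_zpowers _))
      fix := fun x hx hc => by
        obtain ⟨i, rfl⟩ := hKmem hx
        rw [← map_mul, ← map_mul] at hc
        have e := J.inj hc
        rw [r_mul_sr, sr_mul_r, sr.injEq] at e
        rcases (show i = 0 ∨ i = 3 from by revert e; clear hc hx; revert i; decide) with rfl | rfl
        · left; rw [show (r 0 : DihedralGroup 6) = 1 from rfl, map_one]
        · exact Or.inr rfl
      hti := fun k x hk hx hkx => by
        obtain ⟨i, rfl⟩ := hKmem hx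
        obtain ⟨j, hj⟩ := hKmem hkx
        have hpow : ∀ i : ZMod 6, J.j (r i) ^ 3 = J.j (r (i + i + i)) := fun i => by
          rw [← map_pow]; congr 1
          rw [pow_succ, pow_two, r_mul_r, r_mul_r]
        have h3 : k * J.j (r (i + i + i)) * k⁻¹ = J.j (r (j + j + j)) := by
          rw [← hpow, ← hpow, ← conj_pow, hj]
        have hord : orderOf (r i : DihedralGroup 6) = orderOf (r j : DihedralGroup 6) := by
          rw [← orderOf_injective J.j J.inj, ← orderOf_injective J.j J.inj (r j), ← hj,
            show k * J.j (r i) * k⁻¹ = MulAut.conj k (J.j (r i)) from rfl, MulEquiv.orderOf_eq]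
        by_contra hne
        rcases d12_rot_cases i with rfl | ⟨-, rfl⟩ | ⟨hi3, hi⟩ | hi3
        · exact hne (by rw [show (r 0 : DihedralGroup 6) = 1 from rfl, map_one])
        · refine hk (mem_centralizer_singleton_iff.2 (mul_inv_eq_iff_eq_mul.1 ?_))
          change k * z * k⁻¹ = J.j (r j) at hj
          have h2 : (r j : DihedralGroup 6) ^ 2 = 1 := by
            rw [← show orderOf (r (3 : ZMod 6)) = 2 from orderOf_eq_prime (by decide) (by decide), hord]
            exact pow_orderOf_eq_one _
          rcases (show j = 0 ∨ j = 3 from by clear hord hj h3; revert h2; revert j; decide +kernel) with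
            rfl | rfl
          · rw [show (r 0 : DihedralGroup 6) = 1 from rfl, map_one] at hj
            exact absurd (conj_eq_one_iff.1 hj) J.z_ne_one
          · exact hj
        · refine hk ?_
          rw [h.cent_z J, ← h.normalizer_X J]
          rw [hi3, show (r 0 : DihedralGroup 6) = 1 from rfl, map_one, mul_one, mul_inv_cancel] at h3
          have hj3 : j + j + j = 0 := by
            have := J.inj (h3.symm.trans J.j.map_one.symm)
            exact DihedralGroup.r.inj this
          have hj0 : j ≠ 0 := by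
            rintro rfl
            rw [show (r 0 : DihedralGroup 6) = 1 from rfl, map_one] at hj
            exact hne (conj_eq_one_iff.1 hj)
          have hz2 : ∀ i : ZMod 6, (i = 2 ∨ i = 4) →
              zpowers (J.j (r i)) = zpowers (J.j (r 2)) := by
            rintro i (rfl | rfl)
            · rfl
            · rw [show (r (4 : ZMod 6) : DihedralGroup 6) = (r 2)⁻¹ by decide, map_inv, zpowers_inv]
          have hj2 : j = 2 ∨ j = 4 := by revert hj0 hj3; clear hord hj h3; revert j; decide
          refine CfsgLib.Transfer.mem_normalizer_of_map_conj_eq ?_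
          rw [← hz2 i hi, MonoidHom.map_zpowers, MulEquiv.coe_toMonoidHom, MulAut.conj_apply, hj,
            hz2 j hj2, hz2 i hi]
        · refine hk (mem_centralizer_singleton_iff.2 (mul_inv_eq_iff_eq_mul.1 ?_))
          rw [hi3] at h3
          change k * z * k⁻¹ = J.j (r (j + j + j)) at h3
          rcases (show j + j + j = 0 ∨ j + j + j = 3 from by clear hord hj h3; revert j; decide) with e | e
          · rw [e, show (r 0 : DihedralGroup 6) = 1 from rfl, map_one] at h3
            exact absurd (conj_eq_one_iff.1 h3) J.z_ne_one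
          · rw [e] at h3; exact h3
      hconj := fun x y hx hy => by
        obtain ⟨a, ha⟩ := hinv x hx
        obtain ⟨b, hb⟩ := hinv y hy
        exact isConj_iff.2 ⟨b * a⁻¹, by rw [← ha, ← hb]; group⟩ }
  letI := Fintype.ofFinite G
  have hK6 : Nat.card K = 6 := by
    rw [hK, J.card_map, Nat.card_zpowers, orderOf_r_one]
  obtain ⟨Fam⟩ := hset.nonempty_family (by rw [hK6]; norm_num)
  obtain ⟨hB, hn⟩ := Fam.B_eq hset
  obtain ⟨F, iF, iT, hodd, ⟨e⟩⟩ :=
    CfsgLib.BSW.psl_of_concl (CfsgLib.BSW.concl_of_setup hset)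
  have hG := hset.card_G'
  have hcp := Nat.card_congr e.toEquiv
  rw [hK6] at hG hB
  rcases hB with hB | hB <;> rw [hB] at hn <;> push_cast at hn
  · haveI : Fact (Nat.Prime 13) := ⟨by norm_num⟩
    have hF : Fintype.card F = 13 := card_eq_of_psl_card hodd (by rw [← hcp, hG]; omega)
    exact Or.inr (psl_prime_field hF e)
  · haveI : Fact (Nat.Prime 11) := ⟨by norm_num⟩
    have hF : Fintype.card F = 11 := card_eq_of_psl_card hodd (by rw [← hcp, hG]; omega)
    exact Or.inl (psl_prime_field hF e)

theorem Hyp.twelve_big_case (h : Hyp H L g) (J : Model H (DihedralGroup 6)) (S : Sylow 2 G)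
    (hLS : L ≤ (S : Subgroup G)) (hne : L ≠ (S : Subgroup G)) :
    Nonempty (G ≃* Equiv.Perm (Fin 5)) ∨
      Nonempty (G ≃* GL (Fin 2) (ZMod 7) ⧸ Subgroup.center (GL (Fin 2) (ZMod 7))) := by
  classical
  haveI : Fact (Nat.Prime 2) := ⟨Nat.prime_two⟩
  set z := J.z
  have hzS : z ∈ (S : Subgroup G) := hLS (h.z_mem_L J)
  have hH : Nat.card H = 12 := by rw [J.card_eq, DihedralGroup.nat_card]
  have hinf : (S : Subgroup G) ⊓ centralizer ({z} : Set G) = L := by
    rw [h.cent_z J]
    rcases h.data.eq_of_lt (le_inf hLS h.data.hLH) (inf_le_right : (S : Subgroup G) ⊓ H ≤ H) with e | e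
    · exact e
    · exact absurd (S.isPGroup'.to_le (inf_eq_right.1 e)) h.data.not_pgroup
  obtain ⟨n, hn⟩ := IsPGroup.iff_card.1 S.isPGroup'
  have hlt : 4 < Nat.card (S : Subgroup G) := by
    rw [← h.card_L_four J]
    refine lt_of_le_of_ne (card_le_of_le hLS) fun e => hne (eq_of_le_of_card_ge hLS e.ge)
  obtain ⟨M, hMn, hMi, hzM⟩ := exists_index_two S J.orderOf_z hzS (by rw [hinf, h.card_L_four J])
    (by
      rw [h.cent_z J, hH, hn]
      intro hd
      have hd2 : 2 ^ n ∣ 2 ^ 2 := by
        have hd' : 2 ^ n ∣ 2 ^ 2 * 3 := hd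
        exact (Nat.Coprime.pow_left n (by norm_num : Nat.Coprime 2 3)).dvd_of_dvd_mul_right hd'
      have := Nat.le_of_dvd (by norm_num) hd2
      omega)
  set X := zpowers (J.j (r 2)) with hX
  have hXc : Nat.card X = 3 := by
    rw [hX, Nat.card_zpowers, orderOf_injective J.j J.inj]
    haveI : Fact (Nat.Prime 3) := ⟨Nat.prime_three⟩
    exact orderOf_eq_prime (by decide) (by decide)
  have hr2M : J.j (r 2) ∈ M := by
    have h2 : J.j (r 4) * J.j (r 4) = J.j (r 2) := by
      rw [← map_mul]; congr 1
    rw [← h2]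
    exact (mul_mem_iff_of_index_two hMi).2 Iff.rfl
  set X' := X.subgroupOf M with hX'
  have hXM : X ≤ M := zpowers_le.2 hr2M
  have hC : centralizer (X' : Set M) = X' := by
    refine le_antisymm (fun x hx => ?_) fun x hx => mem_centralizer_iff.2 fun y hy => ?_
    · have hxX : (x : G) * J.j (r 2) = J.j (r 2) * x := by
        have := mem_centralizer_iff.1 hx ⟨J.j (r 2), hr2M⟩ (mem_zpowers (J.j (r 2)))
        exact (congrArg Subtype.val this).symm
      have hxH : (x : G) ∈ H := by
        rw [← h.normalizer_X J]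
        refine centralizer_le_normalizer _ ?_
        rw [zpowers_eq_closure, centralizer_closure]
        exact mem_centralizer_singleton_iff.2 hxX
      obtain ⟨a, ha⟩ := J.exists_eq hxH
      rw [← ha, ← map_mul, ← map_mul] at hxX
      have hrot := d12_cent_rot a (J.inj hxX)
      rw [hX', mem_subgroupOf, ← ha]
      have hin : ∀ b : DihedralGroup 6, b ∈ zpowers (r 2 : DihedralGroup 6) → J.j b ∈ X := by
        intro b hb
        rw [hX, ← MonoidHom.map_zpowers]
        exact mem_map_of_mem _ hb
      have hr3 : ∀ i : ZMod 6, J.j (r i) ∈ M → i + i + i = 3 → False := by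
        intro i hi e
        refine hzM ?_
        show J.j (r 3) ∈ M
        rw [← e, show (r (i + i + i) : DihedralGroup 6) = r i * r i * r i by rw [r_mul_r, r_mul_r],
          map_mul, map_mul]
        exact mul_mem (mul_mem hi hi) hi
      have haM : J.j a ∈ M := by rw [ha]; exact x.2
      simp only [List.mem_cons, List.not_mem_nil, or_false] at hrot
      rcases hrot with rfl | rfl | rfl | rfl | rfl | rfl
      · exact hin _ (by rw [show (r 0 : DihedralGroup 6) = 1 from rfl]; exact one_mem _)
      · exact hin _ (mem_zpowers _)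
      · exact hin _ (mem_zpowers_iff.2 ⟨2, by decide⟩)
      all_goals exact (hr3 _ haM (by decide)).elim
    · obtain ⟨i, hi⟩ := mem_zpowers_iff.1 (mem_subgroupOf.1 hx)
      obtain ⟨j, hj⟩ := mem_zpowers_iff.1 (mem_subgroupOf.1 hy)
      apply Subtype.ext
      rw [Subgroup.coe_mul, Subgroup.coe_mul, ← hi, ← hj, ← zpow_add, ← zpow_add, add_comm]
  have hXc' : Nat.card X' = 3 := by rw [Nat.card_congr (subgroupOfEquivOfLe hXM).toEquiv, hXc]
  haveI := hMn
  have hnsol : ¬ Group.IsSolvable M := fun hs => by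
    have hb : M = ⊥ := h.eq_bot_of_solvable hs
    exact (mem_bot.1 (hb ▸ hr2M) |> fun e => by
      rw [hX, e, zpowers_one_eq_bot, card_bot] at hXc; omega)
  haveI : (centralizer (M : Set G)).Normal := inferInstance
  have hCM : centralizer (M : Set G) = ⊥ := by
    refine h.eq_bot_of_solvable ?_
    have hab : ∀ a b : centralizer (M : Set G), (a : G) ∈ M → a * b = b * a := fun a b ha =>
      Subtype.ext (mem_centralizer_iff.1 b.2 _ ha)
    haveI : Group.IsSolvable (M.subgroupOf (centralizer (M : Set G))) :=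
      isSolvable_of_comm fun a b => Subtype.ext (hab a b a.2)
    haveI : (M.subgroupOf (centralizer (M : Set G))).Normal := hMn.subgroupOf _
    refine solvable_of_ker_le_range (M.subgroupOf (centralizer (M : Set G))).subtype
      ((QuotientGroup.mk' M).comp (centralizer (M : Set G)).subtype) (fun x hx => ?_)
      (hG'' := ?_)
    · rw [range_subtype]
      rw [MonoidHom.mem_ker, MonoidHom.comp_apply, QuotientGroup.mk'_apply, QuotientGroup.eq_one_iff] at hx
      exact hx
    · haveI : Fact (Nat.Prime 2) := ⟨Nat.prime_two⟩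
      haveI : IsCyclic (G ⧸ M) := isCyclic_of_prime_card (p := 2) (by rw [← index_eq_card, hMi])
      letI : CommGroup (G ⧸ M) := IsCyclic.commGroup
      exact isSolvable_of_comm fun a b => mul_comm a b
  rcases Cfsg.Agent.S3331.result X' hXc' hC with
    ⟨N, hN, hnil, -, hq⟩ | ⟨N, hN, hab, hsq, ⟨e⟩⟩ | ⟨⟨e⟩⟩
  · exfalso
    haveI := hN
    haveI := hnil
    refine hnsol ?_
    haveI : Group.IsSolvable (M ⧸ N) := by
      rcases hq with hq | ⟨⟨f⟩⟩
      · haveI : Fact (Nat.Prime 3) := ⟨Nat.prime_three⟩
        haveI : IsCyclic (M ⧸ N) := isCyclic_of_prime_card hq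
        letI : CommGroup (M ⧸ N) := IsCyclic.commGroup
        exact isSolvable_of_comm fun a b => mul_comm a b
      · exact CfsgLib.Burnside.isSolvable_of_card_eq Nat.prime_two Nat.prime_three 1 1 (by
          rw [Nat.card_congr f.toEquiv, Nat.card_perm, Nat.card_eq_fintype_card, Fintype.card_fin]
          rfl)
    exact solvable_of_ker_le_range N.subtype (QuotientGroup.mk' N) (by rw [QuotientGroup.ker_mk', range_subtype])
  · -- the normal 2-subgroup lies in the core of `M`, normal in `G`
    haveI := hN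
    have hN2 : IsPGroup 2 N := fun x => ⟨1, by rw [pow_one]; exact Subtype.ext (hsq x x.2)⟩
    have hNb : (Cfsg.pCore 2 M).map M.subtype = ⊥ := by
      haveI : (Cfsg.pCore 2 M).Characteristic := inferInstance
      haveI : ((Cfsg.pCore 2 M).map M.subtype).Normal := ConjAct.normal_of_characteristic_of_normal
      refine h.eq_bot_of_solvable ?_
      haveI := ((CfsgLib.PCore.pCore_isPGroup (p := 2) (G := M)).map M.subtype).isNilpotent
      infer_instance
    have hN1 : N = ⊥ := by
      rw [eq_bot_iff, ← (map_eq_bot_iff_of_injective _ M.subtype_injective).1 hNb]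
      exact CfsgLib.PCore.le_pCore hN hN2
    subst hN1
    exact Or.inl (perm_five_of_normal M hMi hCM (QuotientGroup.quotientBot.symm.trans e))
  · haveI : Fact (Nat.Prime 7) := ⟨by norm_num⟩
    exact Or.inr (pgl_seven_of_normal M hMi hCM e)


theorem Hyp.case_twelve (h : Hyp H L g) (J : Model H (DihedralGroup 6)) : Concl G := by
  haveI : Fact (Nat.Prime 2) := ⟨Nat.prime_two⟩
  obtain ⟨S, hS⟩ := h.data.h2.exists_le_sylow
  by_cases he : L = (S : Subgroup G)
  · rcases h.twelve_small_case J S he with e | e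
    · exact Or.inr (Or.inr (Or.inr (Or.inl e)))
    · exact Or.inr (Or.inr (Or.inr (Or.inr (Or.inl e))))
  · rcases h.twelve_big_case J S hS he with e | e
    · exact Or.inr (Or.inl e)
    · exact Or.inr (Or.inr (Or.inl e))

end CfsgLib.Suborbit3
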