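import Cfsg.Agent.Lib.Suborbit3.Three
import Cfsg.Agent.Lib.Suborbit3.Twelve
import Cfsg.Agent.Lib.Suborbit3.Four.Main
import Cfsg.Agent.Lib.Suborbit3.Times.Main
import Cfsg.Agent.Lib.Recognition.SubdegThree.Main

/-!
# Insoluble primitive groups with a suborbit of length three

Conditional on the classification of perfect groups with dihedral Sylow 2-subgroups.
-/

set_option autoImplicit false

namespace CfsgLib.Suborbit3

universe u

theorem main (hGW : CfsgLib.GWCons.RankOneCover.DihedralClassification.{u}) {G : Type u} {Ω : Type*}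
    [Group G] [Finite G] [MulAction G Ω] [FaithfulSMul G Ω] [Finite Ω]
    (hsol : ¬ Group.IsSolvable G) (hprim : MulAction.IsPreprimitive G Ω) (a b : Ω)
    (h3 : Nat.card (MulAction.orbit (MulAction.stabilizer G a) b) = 3) : Concl G := by
  obtain ⟨hmax, hcore, hne, ⟨u, -, hconj⟩, hr, hr'⟩ :=
    CfsgLib.Recognition.WielandtBound.setting hprim h3 (by norm_num : 2 ≤ 3)
  obtain ⟨g, D⟩ := CfsgLib.Recognition.SubdegThree.exists_data hmax hcore (u := u) hconj.symm hne
    inf_le_left inf_le_right hr hr'
  have h : Hyp _ _ g := ⟨D, hsol⟩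
  rcases D.five_cases with e | e | e | e | e <;> obtain ⟨e⟩ := e
  · exact (h.false_of_order_three (by rw [Nat.card_congr e.toEquiv,
      Nat.card_congr Multiplicative.toAdd, Nat.card_zmod])).elim
  · exact Or.inl (h.case_symm_three (Model.ofEquiv e))
  · exact h.case_twelve (Model.ofEquiv e)
  · exact h.case_four hGW (Model.ofEquiv e)
  · exact h.case_times hGW (Model.ofEquiv e)

end CfsgLib.Suborbit3
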