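import Cfsg.Agent.Lib.Suborbit3.Concl
import Mathlib.GroupTheory.SpecificGroups.Dihedral

/-!
# Stabilizer dihedral of order 12: the centralizers
-/

set_option autoImplicit false

namespace CfsgLib.Suborbit3

open Subgroup DihedralGroup

variable {G : Type*} [Group G] [Finite G] {H L : Subgroup G} {g : G}

theorem d12_pow_four : ∀ x : DihedralGroup 6, x * x * (x * x) = 1 → x * x = 1 := by decide +kernel

theorem d12_central : ∀ x : DihedralGroup 6, x * r 3 = r 3 * x := by decide +kernel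

theorem d12_cent_rot : ∀ x : DihedralGroup 6, x * r 2 = r 2 * x →
    x ∈ ([r 0, r 2, r 4, r 3, r 5, r 1] : List (DihedralGroup 6)) := by decide +kernel

theorem d12_rot_cases : ∀ i : ZMod 6, i = 0 ∨ (i + i = 0 ∧ i = 3) ∨ (i + i + i = 0 ∧ (i = 2 ∨ i = 4)) ∨
    (i + i + i = 3) := by decide +kernel

variable (h : Hyp H L g) (J : Model H (DihedralGroup 6))

/-- The central involution of the stabilizer. -/
def Model.z : G := J.j (r 3)

theorem Model.z_ne_one : J.z ≠ 1 := fun e => by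
  have := J.inj (e.trans J.j.map_one.symm)
  revert this; decide

theorem Model.orderOf_z : orderOf J.z = 2 :=
  orderOf_eq_prime (by
    rw [pow_two, Model.z, ← map_mul, show (r 3 * r 3 : DihedralGroup 6) = 1 from by decide,
      map_one]) J.z_ne_one

theorem Model.z_mem : J.z ∈ H := J.mem _

theorem Model.comm_z {x : G} (hx : x ∈ H) : x * J.z = J.z * x := by
  obtain ⟨a, rfl⟩ := J.exists_eq hx
  rw [Model.z, ← map_mul, ← map_mul, d12_central]

include h J

theorem Hyp.cent_z : centralizer ({J.z} : Set G) = H := by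
  refine le_antisymm ?_ fun x hx => mem_centralizer_singleton_iff.2 (J.comm_z hx)
  rw [← centralizer_closure, ← zpowers_eq_closure]
  refine h.normalizer_le (zpowers_le.2 J.z_mem) (zpowers_ne_bot.2 J.z_ne_one) fun x hx => ?_
  refine CfsgLib.Recognition.SubdegThree.mem_normalizer_of_conj fun y hy => ?_
  obtain ⟨i, rfl⟩ := mem_zpowers_iff.1 hy
  rw [show x * J.z ^ i * x⁻¹ = J.z ^ i from mul_inv_eq_iff_eq_mul.2
    ((show Commute x J.z from J.comm_z hx).zpow_right i).eq]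
  exact hy

/-- The subgroup of order three. -/
theorem Hyp.normalizer_X : normalizer ((zpowers (J.j (r 2)) : Subgroup G) : Set G) = H := by
  have hX : zpowers (J.j (r 2)) = (zpowers (r 2 : DihedralGroup 6)).map J.j :=
    (MonoidHom.map_zpowers J.j _).symm
  have hne : (r 2 : DihedralGroup 6) ≠ 1 := by decide
  haveI : (zpowers (r 2 : DihedralGroup 6)).Normal := ⟨by
    intro x hx y
    obtain ⟨i, rfl⟩ := mem_zpowers_iff.1 hx
    rw [← conj_zpow]
    rcases (show y * r 2 * y⁻¹ = r 2 ∨ y * r 2 * y⁻¹ = (r 2)⁻¹ from by revert y; decide +kernel) with e | e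
    · rw [e]; exact zpow_mem (mem_zpowers _) i
    · rw [e]; exact zpow_mem (inv_mem (mem_zpowers _)) i⟩
  rw [hX]
  exact h.normalizer_eq (J.map_le _) (J.map_ne_bot (zpowers_ne_bot.2 hne)) (J.le_normalizer_map _)

theorem Hyp.card_L_four : Nat.card L = 4 := by
  have h1 := h.card_H
  rw [J.card_eq, DihedralGroup.nat_card] at h1
  omega

theorem Hyp.sq_L {x : G} (hx : x ∈ L) : x * x = 1 := by
  obtain ⟨a, rfl⟩ := J.exists_eq (h.data.hLH hx)
  rw [← map_mul, ← map_one J.j]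
  refine congrArg J.j (d12_pow_four a (J.inj ?_))
  obtain ⟨k, hk⟩ : ∃ k, orderOf (J.j a) * k = 4 := by
    obtain ⟨k, hk⟩ := h.card_L_four J ▸ L.orderOf_dvd_natCard hx
    exact ⟨k, hk.symm⟩
  rw [map_one, map_mul, map_mul,
    show J.j a * J.j a * (J.j a * J.j a) = J.j a ^ 4 by simp [pow_succ, mul_assoc], ← hk, pow_mul, pow_orderOf_eq_one,
    one_pow]

theorem Hyp.L_comm {x y : G} (hx : x ∈ L) (hy : y ∈ L) : x * y = y * x :=
  CfsgLib.Recognition.SubdegThree.comm_of_sq (h.sq_L J hx) (h.sq_L J hy)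
    (h.sq_L J (mul_mem hx hy))

theorem Hyp.z_mem_L : J.z ∈ L := by
  haveI : Fact (Nat.Prime 2) := ⟨Nat.prime_two⟩
  by_contra hz
  have hn : zpowers J.z ≤ normalizer (L : Set G) := zpowers_le.2
    (CfsgLib.Recognition.SubdegThree.mem_normalizer_of_conj fun y hy => by
      rwa [show J.z * y * J.z⁻¹ = y from mul_inv_eq_iff_eq_mul.2 (J.comm_z (h.data.hLH hy)).symm])
  have hp : IsPGroup 2 (L ⊔ zpowers J.z : Subgroup G) :=
    IsPGroup.to_sup_of_normal_left' h.data.h2
      (IsPGroup.of_card (n := 1) (by rw [Nat.card_zpowers, J.orderOf_z, pow_one])) hn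
  rcases h.data.eq_of_lt (le_sup_left : L ≤ L ⊔ zpowers J.z)
      (sup_le h.data.hLH (zpowers_le.2 J.z_mem)) with e | e
  · exact hz (e ▸ mem_sup_right (mem_zpowers _))
  · exact h.data.not_pgroup (e ▸ hp)

theorem Hyp.conj_z_mem_L : g * J.z * g⁻¹ ∈ L :=
  (mem_normalizer_iff.1 h.data.hg _).1 (h.z_mem_L J)

theorem Hyp.conj_z_ne : g * J.z * g⁻¹ ≠ J.z := fun e => h.data.hgH (by
  rw [← h.cent_z J, mem_centralizer_singleton_iff]
  exact mul_inv_eq_iff_eq_mul.1 e)

theorem Hyp.cent_L : centralizer (L : Set G) = L := by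
  refine le_antisymm (fun x hx => ?_) fun x hx => mem_centralizer_iff.2 fun y hy => h.L_comm J hy hx
  rw [← h.inf_cj]
  refine ⟨?_, CfsgLib.Recognition.SubdegThree.mem_cj.2 ?_⟩
  · rw [← h.cent_z J]
    exact mem_centralizer_singleton_iff.2 (mem_centralizer_iff.1 hx _ (h.z_mem_L J)).symm
  · rw [← h.cent_z J, mem_centralizer_singleton_iff]
    have h1 := (mem_centralizer_iff.1 hx _ (h.conj_z_mem_L J)).symm
    calc g⁻¹ * x * g * J.z = g⁻¹ * (x * (g * J.z * g⁻¹)) * g := by group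
      _ = g⁻¹ * (g * J.z * g⁻¹ * x) * g := by rw [h1]
      _ = J.z * (g⁻¹ * x * g) := by group

theorem Hyp.cases_L {x : G} (hx : x ∈ L) :
    x = 1 ∨ x = J.z ∨ x = g * J.z * g⁻¹ ∨ x = J.z * (g * J.z * g⁻¹) := by
  classical
  have hz := h.z_mem_L J
  have hw := h.conj_z_mem_L J
  have hne := h.conj_z_ne J
  have hz1 := J.z_ne_one
  have hw1 : g * J.z * g⁻¹ ≠ 1 := fun e => hz1 (conj_eq_one_iff.1 e)
  set w := g * J.z * g⁻¹
  have hzw1 : J.z * w ≠ 1 := fun e => hne (mul_left_cancel (e.trans (h.sq_L J hz).symm))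
  by_contra hc
  push Not at hc
  obtain ⟨c1, c2, c3, c4⟩ := hc
  haveI := Fintype.ofFinite L
  have h5 : ({⟨1, one_mem L⟩, ⟨J.z, hz⟩, ⟨w, hw⟩, ⟨J.z * w, mul_mem hz hw⟩, ⟨x, hx⟩} :
      Finset L).card = 5 := by
    have a1 : J.z * w ≠ J.z := fun e => hw1 (mul_eq_left.1 e)
    have a2 : J.z * w ≠ w := fun e => hz1 (mul_eq_right.1 e)
    simp [hz1.symm, hw1.symm, hzw1.symm, c1.symm, c2.symm, c3.symm, c4.symm, hne.symm, a1.symm, a2.symm]
  have := Finset.card_le_univ ({⟨1, one_mem L⟩, ⟨J.z, hz⟩, ⟨w, hw⟩, ⟨J.z * w, mul_mem hz hw⟩,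
      ⟨x, hx⟩} : Finset L)
  rw [h5, ← Nat.card_eq_fintype_card, h.card_L_four J] at this
  omega

end CfsgLib.Suborbit3
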